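import Cfsg.Agent.CosetCert.Basic

/-! Generated: small data of the global step. -/

set_option maxRecDepth 100000
set_option Elab.async false

namespace Cfsg.Agent.HNRec.Global.Data

open Cfsg.Agent.CosetCert

/-- The squares equal to the central involution. -/
def qMask : ℕ := 16
/-- The commutators equal to it. -/
def cMask : List ℕ := [0, 0, 1, 0, 0, 16, 41, 98]
/-- The central involution of the extraspecial group. -/
def bW : List ℕ := [2, 2, 2, 0, 4, 2, 2, 2, 0, 2, 2, 2, 0, 4, 3, 3, 3, 1]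
/-- Seven of its generators in the model. -/
def eW : List (List ℕ) := [[2, 2, 2, 0, 4, 2, 2, 2], [0, 0], [4], [0, 3, 1, 5, 0, 1, 0, 2, 5, 3, 1, 0, 3, 1, 5, 0, 1, 0, 2, 5, 3, 1], [0, 2, 0, 2, 0, 2, 0, 2, 0, 3, 1, 5, 0, 1, 0, 2, 5, 3, 1], [3, 0, 2, 0, 3, 0, 3, 1, 5, 0, 1, 0, 2, 5, 3, 1, 3, 0, 2, 0, 3, 0, 3, 1, 5, 0, 1, 0, 2, 5, 3, 1, 3, 0, 2, 0, 3], [3, 0, 2, 0, 3, 0, 2, 0, 2, 0, 2, 0, 2, 0, 3, 1, 5, 0, 1, 0, 2, 5, 3, 1, 3, 0, 2, 0, 3, 3, 0, 2, 0, 3, 0, 2, 0, 2, 0, 2, 0, 2, 0, 3, 1, 5, 0, 1, 0, 2, 5, 3, 1, 3, 0, 2, 0, 3, 3, 0, 2, 0, 3, 0, 2, 0, 2, 0, 2, 0, 2, 0, 3, 1, 5, 0, 1, 0, 2, 5, 3, 1, 3, 0, 2, 0, 3]]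
/-- Five elements of the model commuting with `z`. -/
def dW : List (List ℕ) := [[4], [0, 0], [0, 0, 3, 4, 2, 4, 3], [3, 0, 2, 0, 3], [0, 2, 0, 2, 0, 2, 0, 2]]
/-- Their conjugates under `s`. -/
def sdW : List (List ℕ) := [[0, 0], [4], [0, 0, 3, 4, 2, 4, 3], [3, 0, 2, 1, 3, 4], [0, 3, 0, 3, 0, 3, 0, 3]]
/-- Six generators through the five elements. -/
def eD : List (List ℕ) := [[1], [0], [2, 2], [4, 2], [3, 2, 3, 2, 3], [3, 4, 2, 3, 3, 4, 2, 3, 3, 4, 2, 3]]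
/-- The central involution through the five elements. -/
def bD : List ℕ := [2, 4, 2, 4]
/-- A generator. -/
def uW : List ℕ := [3, 3, 0, 2, 0, 2, 0, 3, 3]
/-- A generator. -/
def vW : List ℕ := [2, 2, 0, 2, 0, 2, 0, 4, 3, 0, 3, 0, 3, 3]
/-- The part in the model of the image of the last generator. -/
def uH : List ℕ := [2, 2, 4, 2, 0, 4, 2, 4, 3, 0, 4, 3, 4, 3, 3, 5]
/-- The part in the model of the image of the last generator. -/
def vH : List ℕ := [1, 3, 4, 2, 4, 2, 4, 2, 2, 4, 3, 3, 4, 3, 5, 3, 5, 2, 1]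
/-- The images of the generators under `s`. -/
def sImg : List ℕ := [128, 4, 2, 8, 280, 38, 106, 1]
/-- The images of the generators under `uW`. -/
def uImg : List ℕ := [289, 2, 6, 298, 354, 32, 306, 173]
/-- The images of the generators under `vW`. -/
def vImg : List ℕ := [1, 2, 318, 304, 85, 349, 378, 508]
/-- The representative of the classes of mixed type. -/
def aW : List ℕ := [0, 4]
/-- The representative of the outer class of the second kind. -/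
def yW : List ℕ := [0, 2, 0, 2, 0, 4, 2, 0, 2]
/-- The three segments, separated by `s`, of a fixed-point-free element. -/
def rW : List (List ℕ) := [[0, 2, 0, 2, 0, 2, 1, 4, 2, 4, 3, 2, 2, 0, 3, 0, 3, 0, 2, 2], [2, 2, 0, 2, 0, 2, 0, 4, 3, 0, 3, 0, 3, 3], [0, 2, 2, 2, 0, 2, 2, 2, 0, 2, 2, 2, 2, 2, 0, 2, 0, 2, 0, 4, 3, 0, 3, 0, 3, 3]]
/-- The maps of the three representatives. -/
def clsIdx : List ℕ := [45, 2799, 6889]
/-- The class of the first map. -/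
def cl60 : List ℕ := [45, 14, 262, 1, 83, 622, 474, 19, 252, 172, 1064, 88, 55, 71, 607, 816, 64, 829, 556, 3109, 230, 12, 301, 894, 2343, 1766, 290, 2133, 223, 4645, 2718, 569, 907, 3, 687, 1875, 2506, 4549, 669, 642, 3993, 51, 1900, 1966, 2228, 17, 2123, 2407, 4628, 4411, 780, 1705, 274, 5493, 5066, 3376, 4301, 4994, 5747, 6395]
/-- Conjugators for it. -/
def cl60J : List ℕ := [0, 1, 3, 6, 8, 5, 7, 20, 16, 15, 11, 21, 28, 36, 24, 44, 23, 43, 31, 39, 66, 80, 74, 62, 77, 59, 76, 73, 46, 54, 69, 94, 159, 108, 102, 90, 132, 129, 104, 131, 101, 116, 124, 218, 255, 231, 225, 275, 214, 181, 298, 227, 180, 274, 290, 519, 363, 521, 448, 801]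
/-- The sixty vectors of the first kind. -/
def pList : List ℕ := [1, 2, 3, 4, 6, 8, 23, 29, 33, 34, 35, 41, 42, 43, 48, 52, 54, 56, 60, 62, 66, 68, 70, 71, 90, 92, 94, 95, 104, 108, 110, 111, 120, 124, 126, 127, 128, 132, 137, 143, 146, 147, 157, 158, 162, 163, 165, 166, 170, 171, 173, 174, 194, 205, 213, 218, 225, 236, 241, 252]
/-- The seventy-five of the second kind. -/
def rList : List ℕ := [9, 10, 11, 12, 14, 21, 31, 32, 36, 38, 40, 44, 46, 49, 50, 51, 57, 58, 59, 64, 69, 73, 75, 81, 83, 88, 93, 97, 99, 106, 109, 113, 115, 122, 125, 129, 135, 136, 140, 149, 150, 154, 155, 178, 179, 181, 182, 186, 187, 189, 190, 193, 198, 199, 200, 203, 204, 208, 211, 212, 217, 222, 223, 226, 230, 231, 232, 235, 237, 242, 246, 247, 248, 251, 253]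
/-- A vector of the second kind. -/
def r33 : ℕ := 32
/-- A vector of the second kind. -/
def r44 : ℕ := 9
/-- A conjugator or word. -/
def wb33 : List ℕ := [2, 2, 4, 2, 4, 2, 2]
/-- A conjugator or word. -/
def wb33b : List ℕ := [3, 4, 3, 4, 2, 4, 2]
/-- A conjugator or word. -/
def wy44 : List ℕ := [0, 2, 4, 2, 0, 3, 4, 3, 0, 3, 0, 3, 3, 0, 3]
/-- A conjugator or word. -/
def wy44b : List ℕ := [2, 4, 2, 0, 3, 4, 3, 0, 3, 0, 3, 3, 0, 3]
/-- A conjugator or word. -/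
def wyb : List ℕ := [2, 4, 3, 4, 2]
/-- A conjugator or word. -/
def wab : List ℕ := [2, 2, 0, 3, 3, 0, 3, 0, 3, 0, 3, 3, 0, 3]
/-- A conjugator or word. -/
def wbp : List ℕ := [3, 0, 3, 4, 0, 3, 0, 3, 3, 0, 3]
/-- A conjugator or word. -/
def hzW : List ℕ := [2, 2, 2, 0, 3, 3, 4, 3, 0, 2, 2, 4, 2]
/-- A conjugator or word. -/
def bpW : List ℕ := [4, 0, 0, 3, 4, 2, 4, 3, 3, 0, 2, 1, 3, 4, 0, 3, 0, 3, 0, 3, 0, 3, 3, 0, 2, 1, 3, 4, 3, 0, 2, 1, 3, 4, 0, 3, 0, 3, 0, 3, 0, 3, 3, 0, 2, 1, 3, 4, 0, 0, 3, 4, 2, 4, 3, 0, 3, 0, 3, 0, 3, 0, 3]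
/-- A conjugator or word. -/
def bhD : List ℕ := [1, 2, 3, 4, 3, 3, 4, 3, 2, 4]

/-- The maps of the three segments. -/
def segIdx : List ℕ := [2, 3, 6882]

/-- Generators carrying the first involution to its product with the centre. -/
def tbPath : List ℕ := [0, 2, 1, 1, 2, 0]

end Cfsg.Agent.HNRec.Global.Data
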